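-- Team project FW (S3211, helper44): package [CNTEQ] (helper60).
import Mathlib
import Cfsg.Agent.Lib.Helper44.FW.Defs

set_option autoImplicit false

namespace Cfsg.Agent.Lib.Helper60.FW

open Cfsg.Agent.Lib.Helper44.FW

universe u

/-- [CNTEQ] conjugation by a swapping element is a bijection between the square roots of `j`
and of `t₀` in `C(j) ∩ C(t₀)`. -/
theorem pkgCntEq : PkgCntEq.{u} := by
  intro G _ j t₀ g h1 h2
  have h3 : g⁻¹ * t₀ * g = j := by rw [← h1]; group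
  have h4 : g⁻¹ * j * g = t₀ := by rw [← h2]; group
  refine Nat.card_congr
    { toFun := fun r => ⟨g * r.1 * g⁻¹, ?_, ?_, ?_⟩
      invFun := fun r => ⟨g⁻¹ * r.1 * g, ?_, ?_, ?_⟩
      left_inv := ?_
      right_inv := ?_ }
  · -- commutes with j = g t₀ g⁻¹
    obtain ⟨-, hr2, -⟩ := r.2
    have : g * r.1 * g⁻¹ * (g * t₀ * g⁻¹) = (g * t₀ * g⁻¹) * (g * r.1 * g⁻¹) := by
      have e1 : g * r.1 * g⁻¹ * (g * t₀ * g⁻¹) = g * (r.1 * t₀) * g⁻¹ := by group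
      have e2 : (g * t₀ * g⁻¹) * (g * r.1 * g⁻¹) = g * (t₀ * r.1) * g⁻¹ := by group
      rw [e1, e2, hr2]
    rwa [h2] at this
  · obtain ⟨hr1, -, -⟩ := r.2
    have : g * r.1 * g⁻¹ * (g * j * g⁻¹) = (g * j * g⁻¹) * (g * r.1 * g⁻¹) := by
      have e1 : g * r.1 * g⁻¹ * (g * j * g⁻¹) = g * (r.1 * j) * g⁻¹ := by group
      have e2 : (g * j * g⁻¹) * (g * r.1 * g⁻¹) = g * (j * r.1) * g⁻¹ := by group
      rw [e1, e2, hr1]
    rwa [h1] at this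
  · obtain ⟨-, -, hr3⟩ := r.2
    have e1 : (g * r.1 * g⁻¹) ^ 2 = g * r.1 ^ 2 * g⁻¹ := by rw [pow_two, pow_two]; group
    rw [e1, hr3, h1]
  · obtain ⟨-, hr2, -⟩ := r.2
    have : g⁻¹ * r.1 * g * (g⁻¹ * t₀ * g) = (g⁻¹ * t₀ * g) * (g⁻¹ * r.1 * g) := by
      have e1 : g⁻¹ * r.1 * g * (g⁻¹ * t₀ * g) = g⁻¹ * (r.1 * t₀) * g := by group
      have e2 : (g⁻¹ * t₀ * g) * (g⁻¹ * r.1 * g) = g⁻¹ * (t₀ * r.1) * g := by group
      rw [e1, e2, hr2]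
    rwa [h3] at this
  · obtain ⟨hr1, -, -⟩ := r.2
    have : g⁻¹ * r.1 * g * (g⁻¹ * j * g) = (g⁻¹ * j * g) * (g⁻¹ * r.1 * g) := by
      have e1 : g⁻¹ * r.1 * g * (g⁻¹ * j * g) = g⁻¹ * (r.1 * j) * g := by group
      have e2 : (g⁻¹ * j * g) * (g⁻¹ * r.1 * g) = g⁻¹ * (j * r.1) * g := by group
      rw [e1, e2, hr1]
    rwa [h4] at this
  · obtain ⟨-, -, hr3⟩ := r.2
    have e1 : (g⁻¹ * r.1 * g) ^ 2 = g⁻¹ * r.1 ^ 2 * g := by rw [pow_two, pow_two]; group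
    rw [e1, hr3, h3]
  · intro r
    apply Subtype.ext
    show g⁻¹ * (g * r.1 * g⁻¹) * g = r.1
    group
  · intro r
    apply Subtype.ext
    show g * (g⁻¹ * r.1 * g) * g⁻¹ = r.1
    group

end Cfsg.Agent.Lib.Helper60.FW
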