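-- Team project FW (S3211, helper44): package [PHI] (helper60).
import Mathlib
import Cfsg.Agent.Lib.Helper44.FW.Defs

set_option autoImplicit false

namespace Cfsg.Agent.Lib.Helper60.FW

open Cfsg.Agent.Lib.Helper44.FW

universe u

/-- [PHI] a square root `r` of `t₀` in `C(j) ∩ C(t₀)` outside `L₁L₂` gives the square root
`r x₀` of `j`, different from `n`. -/
theorem pkgPhi : PkgPhi.{u} := by
  intro G _ L₁ L₂ j n hC hI x₀ hx₀ hx₀2 r hrC hrY hrt hr2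
  obtain ⟨y₀, hy₀def⟩ : ∃ y₀, y₀ = n * x₀ * n⁻¹ := ⟨_, rfl⟩
  rw [← hy₀def] at hrt hr2
  have hj2 : j ^ 2 = 1 := by rw [← hC.ord]; exact pow_orderOf_eq_one j
  have hj1 : j ≠ 1 := by
    intro h
    have := hC.ord
    rw [h, orderOf_one] at this
    omega
  have hjL : j ∈ L₁ ⊓ L₂ := by rw [hC.meet]; exact Subgroup.mem_zpowers j
  have hjL₁ : j ∈ L₁ := hjL.1
  have hy₀ : y₀ ∈ L₂ := by
    rw [← hC.swap, hy₀def]
    exact ⟨x₀, hx₀, rfl⟩
  have hnj : n * j = j * n := Subgroup.mem_centralizer_singleton_iff.mp hC.hn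
  have hy₀2 : y₀ ^ 2 = j := by
    have e1 : y₀ ^ 2 = n * x₀ ^ 2 * n⁻¹ := by rw [hy₀def, pow_two, pow_two]; group
    rw [e1, hx₀2, hnj]; group
  have hxy : x₀ * y₀ = y₀ * x₀ := hC.comm x₀ hx₀ y₀ hy₀
  have hjx : j * x₀ = x₀ * j := by rw [← hx₀2, pow_two, mul_assoc]
  have hyxyx : y₀ * (x₀ * y₀) * x₀ = j * j := by
    rw [hxy]
    have e : y₀ * (y₀ * x₀) * x₀ = y₀ ^ 2 * x₀ ^ 2 := by rw [pow_two, pow_two]; group
    rw [e, hy₀2, hx₀2]
  have hjj : j * j = 1 := by rw [← pow_two, hj2]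
  -- elements of the meet
  have hmeet : ∀ e, e ∈ L₁ → e ∈ L₂ → e = 1 ∨ e = j := by
    intro e h1 h2
    have : e ∈ L₁ ⊓ L₂ := ⟨h1, h2⟩
    rw [hC.meet, Subgroup.mem_zpowers_iff] at this
    obtain ⟨k, rfl⟩ := this
    rcases Int.even_or_odd' k with ⟨m, rfl | rfl⟩
    · left
      rw [zpow_mul, zpow_two, hjj, one_zpow]
    · right
      rw [zpow_add_one, zpow_mul, zpow_two, hjj, one_zpow, one_mul]
  -- Y normalizes L₁ and L₂
  have hN₁ : ∀ a ∈ L₁ ⊔ L₂, ∀ x ∈ L₁, a * x * a⁻¹ ∈ L₁ := by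
    have hle : L₁ ⊔ L₂ ≤ Subgroup.normalizer L₁ := by
      apply sup_le Subgroup.le_normalizer
      intro y hy
      rw [Subgroup.mem_normalizer_iff]
      intro x
      constructor
      · intro hx
        have : y * x * y⁻¹ = x := by rw [← hC.comm x hx y hy]; group
        rw [this]; exact hx
      · intro hx
        have h1 := hC.comm _ hx y hy
        have h2 : y * x = y * (y * x * y⁻¹) := by
          rw [← h1]; group
        have h3 : x = y * x * y⁻¹ := mul_left_cancel h2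
        rw [h3]; exact hx
    intro a ha x hx
    exact (Subgroup.mem_normalizer_iff.mp (hle ha) x).mp hx
  have hN₂ : ∀ a ∈ L₁ ⊔ L₂, ∀ y ∈ L₂, a * y * a⁻¹ ∈ L₂ := by
    have hle : L₁ ⊔ L₂ ≤ Subgroup.normalizer L₂ := by
      refine sup_le ?_ Subgroup.le_normalizer
      intro x hx
      rw [Subgroup.mem_normalizer_iff]
      intro y
      constructor
      · intro hy
        have : x * y * x⁻¹ = y := by rw [hC.comm x hx y hy]; group
        rw [this]; exact hy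
      · intro hy
        have h1 := hC.comm x hx _ hy
        have h2 : x * y = x * (x * y * x⁻¹) := by
          rw [h1]; group
        have h3 : y = x * y * x⁻¹ := mul_left_cancel h2
        rw [h3]; exact hy
    intro a ha y hy
    exact (Subgroup.mem_normalizer_iff.mp (hle ha) y).mp hy
  -- n ∉ Y
  have hnY : n ∉ L₁ ⊔ L₂ := by
    intro hn
    have h1 : y₀ ∈ L₁ := by rw [hy₀def]; exact hN₁ n hn x₀ hx₀
    rcases hmeet y₀ h1 hy₀ with h | h
    · rw [h, one_pow] at hy₀2; exact hj1 hy₀2.symm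
    · rw [h, hj2] at hy₀2; exact hj1 hy₀2.symm
  -- a := r n⁻¹ ∈ Y
  have haY : r * n⁻¹ ∈ L₁ ⊔ L₂ := by
    have hidx : ((L₁ ⊔ L₂).subgroupOf (Subgroup.centralizer ({j} : Set G))).index = 2 := hC.idx
    have key := (Subgroup.mul_mem_iff_of_index_two hidx
      (a := (⟨r, hrC⟩ : Subgroup.centralizer ({j} : Set G)))
      (b := (⟨n, hC.hn⟩ : Subgroup.centralizer ({j} : Set G))⁻¹)).mpr (by
        constructor
        · intro h; exact absurd (Subgroup.mem_subgroupOf.mp h) hrY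
        · intro h; exact absurd (Subgroup.mem_subgroupOf.mp (inv_mem_iff.mp h)) hnY)
    exact Subgroup.mem_subgroupOf.mp key
  have hz : r * x₀ * r⁻¹ ∈ L₂ := by
    have e : r * x₀ * r⁻¹ = (r * n⁻¹) * y₀ * (r * n⁻¹)⁻¹ := by rw [hy₀def]; group
    rw [e]
    exact hN₂ _ haY y₀ hy₀
  have hw : r * y₀ * r⁻¹ ∈ L₁ := by
    have e : r * y₀ * r⁻¹ = (r * n⁻¹) * x₀ * (r * n⁻¹)⁻¹ := by
      have e1 : r * y₀ * r⁻¹ = (r * n⁻¹) * (n ^ 2 * x₀ * (n ^ 2)⁻¹) * (r * n⁻¹)⁻¹ := by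
        rw [hy₀def, pow_two]; group
      rw [e1, hC.hn2, hjx]; group
    rw [e]
    exact hN₁ _ haY x₀ hx₀
  have hzw : (r * y₀ * r⁻¹) * (r * x₀ * r⁻¹) = x₀ * y₀ := by
    rw [hC.comm _ hw _ hz]
    have e : (r * x₀ * r⁻¹) * (r * y₀ * r⁻¹) = r * (x₀ * y₀) * r⁻¹ := by group
    rw [e, hrt]; group
  have he : x₀⁻¹ * (r * y₀ * r⁻¹) = y₀ * (r * x₀ * r⁻¹)⁻¹ := by
    rw [inv_mul_eq_iff_eq_mul, ← mul_assoc, eq_mul_inv_iff_mul_eq]
    exact hzw
  have hsq : (r * x₀) ^ 2 = (r * x₀ * r⁻¹) * r ^ 2 * x₀ := by rw [pow_two, pow_two]; group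
  have hcase := hmeet (y₀ * (r * x₀ * r⁻¹)⁻¹)
    (by rw [← he]; exact L₁.mul_mem (L₁.inv_mem hx₀) hw) (L₂.mul_mem hy₀ (L₂.inv_mem hz))
  constructor
  · rcases hcase with h | h
    · -- z = y₀ : then r x₀ is an involution of C(j), so in Y
      exfalso
      have hzy : y₀ = r * x₀ * r⁻¹ := mul_inv_eq_one.mp h
      have hs2 : (r * x₀) ^ 2 = 1 := by
        rw [hsq, ← hzy, hr2, hyxyx, hjj]
      have hsC : r * x₀ ∈ Subgroup.centralizer ({j} : Set G) :=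
        Subgroup.mul_mem _ hrC (hC.le (Subgroup.mem_sup_left hx₀))
      have hx₀Y : x₀⁻¹ ∈ L₁ ⊔ L₂ := Subgroup.mem_sup_left (L₁.inv_mem hx₀)
      by_cases hs1 : r * x₀ = 1
      · apply hrY
        rw [eq_inv_of_mul_eq_one_left hs1]
        exact hx₀Y
      by_cases hsj : r * x₀ = j
      · apply hrY
        rw [eq_mul_inv_of_mul_eq hsj]
        exact Subgroup.mul_mem _ (Subgroup.mem_sup_left hjL₁) hx₀Y
      obtain ⟨x, hx, y, hy, hxy', -, -⟩ := hI (r * x₀) hsC hs2 hs1 hsj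
      apply hrY
      rw [eq_mul_inv_of_mul_eq hxy']
      exact Subgroup.mul_mem _
        (Subgroup.mul_mem _ (Subgroup.mem_sup_left hx) (Subgroup.mem_sup_right hy)) hx₀Y
    · -- z = j⁻¹ y₀
      have hzy : r * x₀ * r⁻¹ = j⁻¹ * y₀ := by
        have h' : y₀ = j * (r * x₀ * r⁻¹) := mul_inv_eq_iff_eq_mul.mp h
        rw [h']; group
      rw [hsq, hzy, hr2]
      have e : j⁻¹ * y₀ * (x₀ * y₀) * x₀ = j⁻¹ * (y₀ * (x₀ * y₀) * x₀) := by group
      rw [e, hyxyx]; group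
  · intro h
    have hr : r = n * x₀⁻¹ := eq_mul_inv_of_mul_eq h
    rw [hr] at hr2
    have e : (n * x₀⁻¹) ^ 2 = y₀⁻¹ * n ^ 2 * x₀⁻¹ := by rw [hy₀def, pow_two, pow_two]; group
    rw [e, hC.hn2] at hr2
    have e2 : j = y₀ * (y₀⁻¹ * j * x₀⁻¹) * x₀ := by group
    rw [hr2, hyxyx] at e2
    have e3 : j * 1 = j * j := by rw [mul_one]; exact e2
    exact hj1 (mul_left_cancel e3).symm

end Cfsg.Agent.Lib.Helper60.FW
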