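-- Team project FW (S3211, helper44): package [SWAP] (helper60).
import Mathlib
import Cfsg.Agent.Lib.Helper44.FW.Defs

set_option autoImplicit false

namespace Cfsg.Agent.Lib.Helper60.FW

open Cfsg.Agent.Lib.Helper44.FW

universe u

/-- [SWAP] if some conjugate `≠ j` of `j` commutes with `j`, then every involution `t₀ ≠ j` of
`C(j)` is swapped with `j` by some element. -/
theorem pkgSwap : PkgSwap.{u} := by
  intro G _ j t₀ hj hH ht₀C ht₀2 ht₀1 ht₀j ⟨g, hgne, hgc⟩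
  have hj2 : j ^ 2 = 1 := by rw [← hj]; exact pow_orderOf_eq_one j
  have hj1 : j ≠ 1 := by
    intro h
    rw [h, orderOf_one] at hj
    omega
  have ht₀c : t₀ * j = j * t₀ := Subgroup.mem_centralizer_singleton_iff.mp ht₀C
  -- t := g j g⁻¹
  have htC : g * j * g⁻¹ ∈ Subgroup.centralizer ({j} : Set G) :=
    Subgroup.mem_centralizer_singleton_iff.mpr hgc
  have ht2 : (g * j * g⁻¹) ^ 2 = 1 := by
    have e1 : (g * j * g⁻¹) ^ 2 = g * j ^ 2 * g⁻¹ := by rw [pow_two, pow_two]; group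
    rw [e1, hj2]; group
  have ht1 : g * j * g⁻¹ ≠ 1 := by
    intro h
    apply hj1
    have e1 : j = g⁻¹ * (g * j * g⁻¹) * g := by group
    rw [e1, h]; group
  obtain ⟨c, hcC, hc⟩ := hH (g * j * g⁻¹) htC ht2 ht1 hgne t₀ ht₀C ht₀2 ht₀1 ht₀j
  -- g₁ := c g
  have hg₁ : (c * g) * j * (c * g)⁻¹ = t₀ := by
    rw [← hc]; group
  -- a := g₁⁻¹ j g₁
  have haC : (c * g)⁻¹ * j * (c * g) ∈ Subgroup.centralizer ({j} : Set G) := by
    rw [Subgroup.mem_centralizer_singleton_iff]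
    have e1 : (c * g)⁻¹ * j * (c * g) * j
        = (c * g)⁻¹ * (j * ((c * g) * j * (c * g)⁻¹)) * (c * g) := by group
    have e2 : j * ((c * g)⁻¹ * j * (c * g))
        = (c * g)⁻¹ * (((c * g) * j * (c * g)⁻¹) * j) * (c * g) := by group
    rw [e1, e2, hg₁, ht₀c]
  have ha2 : ((c * g)⁻¹ * j * (c * g)) ^ 2 = 1 := by
    have e1 : ((c * g)⁻¹ * j * (c * g)) ^ 2 = (c * g)⁻¹ * j ^ 2 * (c * g) := by
      rw [pow_two, pow_two]; group
    rw [e1, hj2]; group
  have ha1 : (c * g)⁻¹ * j * (c * g) ≠ 1 := by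
    intro h
    apply hj1
    have e1 : j = (c * g) * ((c * g)⁻¹ * j * (c * g)) * (c * g)⁻¹ := by group
    rw [e1, h]; group
  have haj : (c * g)⁻¹ * j * (c * g) ≠ j := by
    intro h
    apply ht₀j
    rw [← hg₁]
    have e1 : (c * g) * j * (c * g)⁻¹
        = (c * g) * ((c * g) * ((c * g)⁻¹ * j * (c * g)) * (c * g)⁻¹) * (c * g)⁻¹ := by group
    have e3 : (c * g) * j = j * (c * g) := by
      have e4 : (c * g) * j = (c * g) * ((c * g)⁻¹ * j * (c * g)) := by rw [h]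
      rw [e4]; group
    rw [e3]; group
  obtain ⟨c', hc'C, hc'⟩ := hH t₀ ht₀C ht₀2 ht₀1 ht₀j _ haC ha2 ha1 haj
  have hc'c : c' * j = j * c' := Subgroup.mem_centralizer_singleton_iff.mp hc'C
  refine ⟨c * g * c', ?_, ?_⟩
  · have e1 : c * g * c' * j * (c * g * c')⁻¹ = (c * g) * (c' * j) * c'⁻¹ * (c * g)⁻¹ := by group
    rw [e1, hc'c, ← hg₁]; group
  · have e1 : c * g * c' * t₀ * (c * g * c')⁻¹ = (c * g) * (c' * t₀ * c'⁻¹) * (c * g)⁻¹ := by
      group
    rw [e1, hc']; group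

end Cfsg.Agent.Lib.Helper60.FW
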